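import Cfsg.Agent.H480.Ore.Fi22Out
import Cfsg.Agent.H587.S8.Out
import Cfsg.Agent.H559.FiSpec
import Cfsg.Agent.S2079
import Cfsg.Agent.H424.DegTools
import Cfsg.Prelude.Def_DegreeGraph

/-!
# S4908, `Fi22`, OUT: `cd(Fi22) ≠ cd(Aut Fi22)` (helper619)

* `card_cent_aut` : if no outer involution of `X` fixes an element of order `q`, the inner automorphism by a self-centralising
  element `w` of prime order `q` has centralizer of order `q` in `Aut X` (`|Out X| = 2`);
* `out` : the degree sets of `X ≃ Fi22` and `MulAut X` are different.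
-/

set_option autoImplicit false

open Subgroup Cfsg

namespace Cfsg.Agent.H619.S8.OutFi22

universe u v

theorem card_cent_aut {X : Type u} [Group X] [Finite X] {q : ℕ} [hq : Fact q.Prime] (hq2 : q ≠ 2)
    (hZ : ∀ g : X, (∀ x, g * x = x * g) → g = 1) (hout : (MulAut.conj : X →* MulAut X).range.index = 2)
    {w : X} (hw : orderOf w = q) (hc : Nat.card (centralizer ({w} : Set X)) = q)
    (hinv : ∀ α : MulAut X, α * α = 1 → (¬ ∃ g, α = MulAut.conj g) → ¬ q ∣ Nat.card ↥(fixedSubgroup α)) :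
    Nat.card (centralizer ({MulAut.conj w} : Set (MulAut X))) = q := by
  have hinj : Function.Injective (MulAut.conj : X →* MulAut X) := by
    rw [injective_iff_map_eq_one]
    intro g hg
    apply hZ
    intro x
    have h1 : (MulAut.conj g) x = x := by rw [hg]; rfl
    rw [MulAut.conj_apply] at h1
    exact mul_inv_eq_iff_eq_mul.1 h1
  have hfix : ∀ α ∈ centralizer ({MulAut.conj w} : Set (MulAut X)), α w = w := by
    intro α hα
    have h1 := mem_centralizer_singleton_iff.1 hα
    apply hinj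
    have h2 : MulAut.conj (α w) = α * MulAut.conj w * α⁻¹ := by
      ext x
      simp [MulAut.conj_apply, MulAut.mul_apply]
    rw [h2, h1, mul_assoc, mul_inv_cancel, mul_one]
  set C : Subgroup (MulAut X) := centralizer ({MulAut.conj w} : Set (MulAut X)) with hC
  set I : Subgroup (MulAut X) := (MulAut.conj : X →* MulAut X).range with hI
  have hIn : I.Normal := Subgroup.normal_of_index_eq_two hout
  have hIC : Nat.card ↥(I.subgroupOf C) = q := by
    rw [← hc]
    refine (Nat.card_congr (Equiv.ofBijective (fun x : ↥(centralizer ({w} : Set X)) =>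
      (⟨⟨MulAut.conj (x : X), ?_⟩, ?_⟩ : ↥(I.subgroupOf C))) ⟨?_, ?_⟩)).symm
    · rw [hC, mem_centralizer_singleton_iff, ← map_mul, ← map_mul, mem_centralizer_singleton_iff.1 x.2]
    · rw [mem_subgroupOf]
      exact ⟨x, rfl⟩
    · intro x y hxy
      apply Subtype.ext
      apply hinj
      exact congrArg (fun z : ↥(I.subgroupOf C) => ((z : ↥C) : MulAut X)) hxy
    · rintro ⟨⟨α, hα⟩, hαI⟩
      rw [mem_subgroupOf] at hαI
      obtain ⟨x, hx⟩ := hαI
      have hx' : MulAut.conj x = α := hx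
      refine ⟨⟨x, ?_⟩, ?_⟩
      · have h1 := hfix α hα
        rw [← hx', MulAut.conj_apply] at h1
        exact mem_centralizer_singleton_iff.2 (mul_inv_eq_iff_eq_mul.1 h1)
      · exact Subtype.ext (Subtype.ext hx')
  have h1 : Nat.card ↥(I.subgroupOf C) * (I.subgroupOf C).index = Nat.card ↥C := (I.subgroupOf C).card_mul_index
  have h2 : (I.subgroupOf C).index ∣ 2 := by
    rw [← hout]
    exact Subgroup.relIndex_dvd_index_of_normal I C
  rw [hIC] at h1
  rcases (Nat.dvd_prime Nat.prime_two).1 h2 with h3 | h3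
  · rw [h3, mul_one] at h1
    exact h1.symm
  · exfalso
    rw [h3] at h1
    have : Fact (Nat.Prime 2) := ⟨Nat.prime_two⟩
    obtain ⟨a, ha⟩ := exists_prime_orderOf_dvd_card' (G := ↥C) 2 (by rw [← h1]; exact dvd_mul_left 2 q)
    have ha2 : (a : MulAut X) * a = 1 := by
      have h4 : a ^ 2 = 1 := by rw [← ha]; exact pow_orderOf_eq_one a
      rw [← pow_two]
      exact congrArg Subtype.val h4
    have hni : ¬ ∃ g, (a : MulAut X) = MulAut.conj g := by
      rintro ⟨g, hg⟩
      have h4 : a ∈ I.subgroupOf C := by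
        rw [mem_subgroupOf]
        exact ⟨g, hg.symm⟩
      have h5 := orderOf_dvd_natCard (⟨a, h4⟩ : ↥(I.subgroupOf C))
      rw [Subgroup.orderOf_mk, ha, hIC] at h5
      exact hq2 ((Nat.prime_dvd_prime_iff_eq Nat.prime_two hq.out).1 h5).symm
    apply hinv a ha2 hni
    have h4 : w ∈ fixedSubgroup (a : MulAut X) := hfix a a.2
    have h5 := orderOf_dvd_natCard (⟨w, h4⟩ : ↥(fixedSubgroup (a : MulAut X)))
    rwa [Subgroup.orderOf_mk, hw] at h5

/-- the form of `H587.S8.not_subset` for `Aut X` -/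
theorem not_subset_aut {X : Type u} [Group X] [Finite X] {q : ℕ} [hq : Fact q.Prime] (h5 : 5 ≤ q)
    (hZ : ∀ g : X, (∀ x, g * x = x * g) → g = 1) (hout : (MulAut.conj : X →* MulAut X).range.index = 2)
    {w : X} (hw : orderOf w = q) (hc : Nat.card (centralizer ({w} : Set X)) = q)
    (hqq : ¬ q ^ 2 ∣ Nat.card X) (he : Nat.card X / q % q = (q - 1) / 2)
    (hinv : ∀ α : MulAut X, α * α = 1 → (¬ ∃ g, α = MulAut.conj g) → ¬ q ∣ Nat.card ↥(fixedSubgroup α)) :
    ¬ charDegrees X ⊆ charDegrees (MulAut X) := by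
  have hinj : Function.Injective (MulAut.conj : X →* MulAut X) := by
    rw [injective_iff_map_eq_one]
    intro g hg
    apply hZ
    intro x
    have h1 : (MulAut.conj g) x = x := by rw [hg]; rfl
    rw [MulAut.conj_apply] at h1
    exact mul_inv_eq_iff_eq_mul.1 h1
  refine H587.S8.not_subset h5 hw hc hqq he (a := MulAut.conj w) ?_
    (card_cent_aut (by omega) hZ hout hw hc hinv) ?_
  · rw [orderOf_injective MulAut.conj hinj, hw]
  · rw [← (MulAut.conj : X →* MulAut X).range.card_mul_index, hout, mul_comm]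
    congr 1
    exact (Nat.card_congr (MonoidHom.ofInjective hinj).toEquiv).symm

open Cfsg.Agent.H647.SpF.Fi22 (ctx0) in
theorem finite22 : Finite Spor.Fi22 := ctx0.finite

open Cfsg.Agent.H323.FiOut (fix_flip) in
open Cfsg.Agent.H833.Flip in
open Cfsg.Agent.Fischer.Fi22PtsRep (gen gen_sq) in
open Cfsg.Agent.H836.EightPts (Cs mem_Cs) in
open Cfsg.Agent.H833.SixPts (Ct mem_Ct tt) in
/-- outer involutions of `Fi22` fix no element of order 13 -/
theorem outer_thirteen {α : MulAut Spor.Fi22} (h2 : α * α = 1) (ho : ¬ ∃ g, α = MulAut.conj g) :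
    ¬ 13 ∣ Nat.card ↥(fixedSubgroup α) := by
  have hfin : Finite Spor.Fi22 := finite22
  have h3 : α ≠ 1 := by
    rintro rfl
    exact ho ⟨1, by rw [map_one]⟩
  have ho2 : orderOf α = 2 := orderOf_eq_prime (by rw [pow_two, h2]) h3
  have key : ∀ β : MulAut Spor.Fi22, IsConj α β → ¬ 13 ∣ Nat.card ↥(fixedSubgroup β) →
      ¬ 13 ∣ Nat.card ↥(fixedSubgroup α) := by
    intro β hc hβ
    obtain ⟨γ, rfl⟩ := isConj_iff.1 hc
    rw [Nat.card_congr (CpAut.fixEquiv γ α).toEquiv]
    exact hβ
  rcases Cfsg.Agent.H830.OutInv22.outer_inv α ho2 (fun ⟨g, hg⟩ => ho ⟨g, hg.symm⟩) with h | h | h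
  · refine key _ h ?_
    rw [fix_flip, Cfsg.Agent.H836.EightMain.card_Cs]
    norm_num
  · refine key _ h ?_
    have hfix : fixedSubgroup (flipA * MulAut.conj (gen .d)) = Cs ⊓ centralizer ({gen .d} : Set Spor.Fi22) := by
      ext g
      exact Cfsg.Agent.H833.CaseD.fixed_iff g
    obtain ⟨f⟩ := Cfsg.Agent.H833.CaseD.iso
    rw [hfix, Nat.card_congr f.toEquiv, Nat.card_prod, Cfsg.Agent.H833.CaseD.card_PSp]
    simp
  · refine key tt h ?_
    have hfix : fixedSubgroup tt = Ct := by
      ext g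
      exact Iff.rfl
    rw [hfix, Cfsg.Agent.H833.SixEnd.card_Ct]
    norm_num

theorem not_subset_model : ¬ charDegrees Spor.Fi22 ⊆ charDegrees (MulAut Spor.Fi22) := by
  have hfin : Finite Spor.Fi22 := finite22
  have : Fact (Nat.Prime 13) := ⟨by norm_num⟩
  have hM : Spor.IsoFi22 Spor.Fi22 := ⟨MulEquiv.refl _⟩
  have hN : Nat.card Spor.Fi22 = 64561751654400 := H559.FiSpec.card_eq hM
  obtain ⟨w, hw⟩ := exists_prime_orderOf_dvd_card' (G := Spor.Fi22) 13 (by rw [hN]; norm_num)
  have hc : Nat.card (centralizer ({w} : Set Spor.Fi22)) = 13 := H559.FiSpec.cent13 hM hw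
  refine not_subset_aut (q := 13) (by norm_num) (fun g hg => H480.Ore.Fi22Out.center_triv hg)
    S2079.result hw hc ?_ ?_ (fun α h1 h2 => outer_thirteen h1 h2)
  · rw [hN]; norm_num
  · rw [hN]

theorem not_subset {X : Type v} [Group X] (h : Spor.IsoFi22 X) : ¬ charDegrees X ⊆ charDegrees (MulAut X) := by
  obtain ⟨e⟩ := h
  rw [H424.DegTools.charDegrees_congr e, H424.DegTools.charDegrees_congr (MulAut.congr e)]
  exact not_subset_model

/-- **OUT for `Fi22`** -/
theorem out {X : Type v} [Group X] (h : Spor.IsoFi22 X) : charDegrees X ≠ charDegrees (MulAut X) :=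
  fun h1 => not_subset h h1.le

end Cfsg.Agent.H619.S8.OutFi22
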