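import Cfsg.Agent.H843.Fi24Ext
import Cfsg.Agent.H653.Sieve.Col
import Cfsg.Agent.H968.Tor.FiFour
import Cfsg.Agent.H816.Fin24
import Cfsg.Agent.H424.DegTools
import Cfsg.Prelude.Def_DegreeGraph

/-!
# S4908, `Fi24'`, OUT: `cd(Fi24') ≠ cd(Fi24)` (helper619)

* `exists_exc` : `Fi24'` has a degree `14` or `15` modulo 29 (an exceptional character of the principal 29-block);
* `ne_model`, `out` : the degree sets of `X ≃ Fi24'` and `MulAut X` are different (helper843: no degree of `Fi24` is
  `14` or `15` modulo 29).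
-/

set_option autoImplicit false

open Subgroup Cfsg

namespace Cfsg.Agent.H619.S8.OutFi24

open Cfsg.Agent.Characters.Core
open Cfsg.Spor (Fi24)

universe v

/-- a degree `14` or `15` modulo 29 -/
theorem exists_exc : ∃ χ : IrrCharacter Spor.Fi24',
    charDegree (χ : Spor.Fi24' → ℂ) % 29 = 14 ∨ charDegree (χ : Spor.Fi24' → ℂ) % 29 = 15 := by
  have hfin' : Finite Spor.Fi24' := H968.Tor.finite24
  have hs : IsSimpleGroup Spor.Fi24' := R08.FiTwentyFour.isFi24'.1
  have : Finite (IrrCharacter Spor.Fi24') := finite_irr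
  have := Fintype.ofFinite (IrrCharacter Spor.Fi24')
  have : Fact (Nat.Prime 29) := ⟨by norm_num⟩
  have hN : Nat.card Spor.Fi24' = 1255205709190661721292800 := Cfsg.Agent.R08.FiTwentyFour.card_commutator
  obtain ⟨x, hx⟩ := exists_prime_orderOf_dvd_card' (G := Spor.Fi24') 29 (by rw [hN]; norm_num)
  have hc : Nat.card (centralizer ({x} : Set Spor.Fi24')) = 29 := H968.Tor.card_cent29 hx
  have hnc : ¬ IsMulCommutative Spor.Fi24' := by
    intro h
    have h1 : centralizer ({x} : Set Spor.Fi24') = ⊤ := by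
      rw [eq_top_iff]
      intro y _
      rw [mem_centralizer_singleton_iff]
      exact mul_comm' y x
    rw [h1, Nat.card_congr Subgroup.topEquiv.toEquiv, hN] at hc
    norm_num at hc
  obtain ⟨P, W, -, -, -, hW⟩ := H653.Sieve.exists_col hnc hN hx
    (k := 1) (by rw [mul_one]; exact hc) 14 2
    [(0, 0), (1, 2), (14, -1), (15, 1), (28, -2)] 2 true (by decide +kernel)
  by_contra hcon
  push Not at hcon
  have h1 := hW.cnt rfl
  rw [Finset.sum_eq_zero] at h1
  · exact absurd h1 (by norm_num)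
  · intro χ _
    have h2 := hW.mem χ
    have h3 : H653.Sieve.deg χ = charDegree (χ : Spor.Fi24' → ℂ) := rfl
    simp only [List.mem_cons, List.not_mem_nil, or_false, Prod.mk.injEq] at h2
    rw [h3] at h2
    obtain ⟨h4, h5⟩ := hcon χ
    rcases h2 with h | h | h | h | h
    · rw [h.2]; rfl
    · rw [h.2]; rfl
    · exact absurd h.1 h4
    · exact absurd h.1 h5
    · rw [h.2]; rfl

theorem ne_model : charDegrees Spor.Fi24' ≠ charDegrees (MulAut Spor.Fi24') := by
  intro h
  obtain ⟨e⟩ := H816.Fin24.fi24_mulAut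
  rw [← H424.DegTools.charDegrees_congr e] at h
  obtain ⟨χ, hχ⟩ := exists_exc
  have h1 : charDegree (χ : Spor.Fi24' → ℂ) ∈ charDegrees Fi24 := by
    rw [← h]; exact ⟨χ, rfl⟩
  obtain ⟨ψ, hψ⟩ := h1
  have h2 := H843.Fi24Ext.no_ext ψ
  rw [hψ] at h2
  rcases hχ with h3 | h3
  · exact h2.1 h3
  · exact h2.2 h3

/-- **OUT for `Fi24'`** -/
theorem out {X : Type v} [Group X] (h : Spor.IsoFi24' X) : charDegrees X ≠ charDegrees (MulAut X) := by
  obtain ⟨e⟩ := h
  rw [H424.DegTools.charDegrees_congr e, H424.DegTools.charDegrees_congr (MulAut.congr e)]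
  exact ne_model

end Cfsg.Agent.H619.S8.OutFi24
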