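import Cfsg.Agent.H256.Sep.FiData
import Cfsg.Agent.H816.Fin24
import Cfsg.Agent.H968.Tor.FiFour

/-!
# S4908: local data of `Fi24'`, `Fi24` at the prime 29 (helper619)

* `norm_F`  : `|N(R)| = 812` in `Fi24`, `|R| = 29`;
* `norm_F'` : `|N(R)| = 406` in `Fi24'`;
* `exists_pow` : `g x g⁻¹ = x ^ k` for every `k` prime to 29 in `Fi24`;
* `cent_F`, `no_58` : `|C(x)| = 29` in `Fi24`, no elements of order 58.
-/

set_option autoImplicit false

open Subgroup Cfsg

namespace Cfsg.Agent.H619.S8.FiIn

open Cfsg.Agent.R08 Cfsg.Agent.R08.FiTwentyFour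
open Cfsg.Spor (Fi24)

/-- the Sylow number determines the normalizer -/
theorem norm_eq {G : Type*} [Group G] [Finite G] {p : ℕ} (hp : p.Prime) {m n N : ℕ} (hN0 : N ≠ 0) (hm : Nat.card G = m)
    (h2 : ¬ p ^ 2 ∣ m) {R : Subgroup G} (hR : Nat.card R = p)
    (hn : Nat.card (normalizer (R : Set G)) ∣ N)
    (hc : ∀ e ∈ Nat.divisors N, m % e = 0 → (m / e) % p = 1 % p → e = n) :
    Nat.card (normalizer (R : Set G)) = n := by
  have hF : Fact p.Prime := ⟨hp⟩
  have hRp : IsPGroup p R := IsPGroup.of_card (n := 1) (by rw [hR, pow_one])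
  obtain ⟨P, hRP⟩ := hRp.exists_le_sylow
  have hPc : Nat.card (P : Subgroup G) = p := by
    obtain ⟨k, hk⟩ := P.isPGroup'.exists_card_eq
    have h1 : Nat.card (P : Subgroup G) ∣ m := by
      rw [← hm]; exact Subgroup.card_subgroup_dvd_card _
    have h3 : Nat.card R ∣ Nat.card (P : Subgroup G) := Subgroup.card_dvd_of_le hRP
    rw [hR] at h3
    rw [hk] at h1 h3 ⊢
    have hk0 : k ≠ 0 := by
      rintro rfl
      rw [pow_zero] at h3
      exact hp.one_lt.ne' (Nat.dvd_one.1 h3)
    have hk1 : k < 2 := by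
      by_contra h
      exact h2 ((pow_dvd_pow p (by omega)).trans h1)
    have : k = 1 := by omega
    rw [this, pow_one]
  have hPR : (P : Subgroup G) = R := (Subgroup.eq_of_le_of_card_ge hRP (by rw [hPc, hR])).symm
  have h1 := card_sylow_modEq_one p G
  have hPR' : ((P : Subgroup G) : Set G) = (R : Set G) := by rw [hPR]
  rw [Sylow.card_eq_index_normalizer P] at h1
  have h1' : (normalizer (R : Set G)).index ≡ 1 [MOD p] := by
    have h4 : (normalizer ((P : Subgroup G) : Set G)).index ≡ 1 [MOD p] := h1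
    rwa [hPR'] at h4
  have h3 := (normalizer (R : Set G)).index_mul_card
  rw [hm] at h3
  have hpos : 0 < Nat.card (normalizer (R : Set G)) := Nat.card_pos
  refine hc _ (Nat.mem_divisors.2 ⟨hn, hN0⟩) ?_ ?_
  · rw [← h3]; exact Nat.mul_mod_left _ _
  · rw [← h3, Nat.mul_div_cancel _ hpos]; exact h1'

theorem norm_F {R : Subgroup Fi24} (hR : Nat.card R = 29) : Nat.card (normalizer (R : Set Fi24)) = 812 := by
  have := finite_Fi24
  exact norm_eq (by norm_num) (by norm_num) H256.Sep.FiData.card_Fi24 (by norm_num) hR (H256.Sep.FiData.data29 hR).2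
    (by decide +kernel)

theorem cent_F {R : Subgroup Fi24} (hR : Nat.card R = 29) : centralizer (R : Set Fi24) = R := by
  have := finite_Fi24
  have h1 : R ≤ centralizer (R : Set Fi24) := by
    have hc : IsCyclic R := isCyclic_of_prime_card (p := 29) (hp := ⟨by norm_num⟩) hR
    have := hc.isMulCommutative
    exact Subgroup.le_centralizer R
  exact (Subgroup.eq_of_le_of_card_ge h1 (by
    rw [hR]; exact Nat.le_of_dvd (by norm_num) (H256.Sep.FiData.data29 hR).1)).symm

theorem card_F' : Nat.card Spor.Fi24' = 1255205709190661721292800 := FiTwentyFour.card_commutator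

instance : Finite Spor.Fi24' := Nat.finite_of_card_ne_zero (by rw [card_F']; norm_num)

theorem norm_F' {R : Subgroup Spor.Fi24'} (hR : Nat.card R = 29) :
    Nat.card (normalizer (R : Set Spor.Fi24')) = 406 := by
  have := finite_Fi24
  refine norm_eq (N := 812) (by norm_num) (by norm_num) card_F' (by norm_num) hR ?_ (by decide +kernel)
  have hR' : Nat.card (R.map (_root_.commutator Fi24).subtype) = 29 := by
    rw [card_map_of_injective (Subgroup.subtype_injective _), hR]
  refine dvd_trans ?_ (H256.Sep.FiData.data29 hR').2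
  have h0 : Nat.card ((normalizer (R : Set Spor.Fi24')).map (_root_.commutator Fi24).subtype) =
      Nat.card (normalizer (R : Set Spor.Fi24')) :=
    card_map_of_injective (K := normalizer (R : Set Spor.Fi24')) (Subgroup.subtype_injective (_root_.commutator Fi24))
  rw [← h0]
  refine card_dvd_of_le ?_
  rintro _ ⟨g, hg, rfl⟩
  rw [mem_normalizer_iff]
  have hg' := mem_normalizer_iff.1 hg
  intro y
  constructor
  · rintro ⟨r, hr, rfl⟩
    exact ⟨g * r * g⁻¹, (hg' r).1 hr, rfl⟩
  · rintro ⟨r, hr, hre⟩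
    refine ⟨g⁻¹ * r * g, ?_, ?_⟩
    · have h1 := (hg' (g⁻¹ * r * g)).2 (by
        have : g * (g⁻¹ * r * g) * g⁻¹ = r := by group
        rw [this]; exact hr)
      exact h1
    · have h2 : (r : Fi24) = (g : Fi24) * y * (g : Fi24)⁻¹ := hre
      show (g : Fi24)⁻¹ * (r : Fi24) * (g : Fi24) = y
      rw [h2]; group

/-- no elements of order 58 -/
theorem no_58 (x : Fi24) : orderOf x ≠ 58 := by
  intro hx
  have := finite_Fi24
  have h1 : orderOf (x ^ 2) = 29 := by rw [orderOf_pow, hx]; decide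
  have h2 : Nat.card (zpowers (x ^ 2)) = 29 := by rw [Nat.card_zpowers, h1]
  have h3 : x ∈ centralizer ((zpowers (x ^ 2) : Subgroup Fi24) : Set Fi24) := by
    rw [mem_centralizer_iff]
    rintro _ ⟨k, rfl⟩
    show (x ^ 2) ^ k * x = x * (x ^ 2) ^ k
    exact ((Commute.refl x).pow_left 2).zpow_left k
  rw [cent_F h2] at h3
  have h4 : orderOf (⟨x, h3⟩ : zpowers (x ^ 2)) ∣ Nat.card (zpowers (x ^ 2)) := orderOf_dvd_natCard _
  rw [Subgroup.orderOf_mk] at h4
  rw [h2, hx] at h4
  norm_num at h4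

end Cfsg.Agent.H619.S8.FiIn
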